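import Groth.Agent.SGA4h.K557.BcHom
import Groth.Agent.SGA5VII.K558.HCmp
import Groth.Agent.EtpbcB.MateCalc
import Groth.Agent.Sga4h.RDExact
import Mathlib.Algebra.Homology.HomologySequenceLemmas
import Mathlib.Algebra.Homology.HomologicalComplexBiprod
import Mathlib.Algebra.Homology.HomologicalComplexAbelian

/-!
# Base change maps at chain level and Mayer-Vietoris, abstract form

Setting as in `K557.BcAbs`: `e : Φ ⋙ Ψ ≅ Φ₂ ⋙ Ψ₂`, `L₂ ⊣ Ψ₂`.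

* `Th u : L₂ Ψ K ⟶ Φ₂ M` for a map of complexes `u : K ⟶ Φ M`; `Th_naturality`;
* `isIso_bc_iff_Th`: the base change map in degree `q` is an isomorphism iff `H^q (Th u)` is, for `u` a map of
  resolutions;
* `quasiIso_τ₁`: two out of three for the first term, any complex shape;
* `quasiIso_Th_biprod`, `quasiIso_Th_of_shortExact`.
-/

set_option autoImplicit false
set_option backward.isDefEq.respectTransparency false
universe v₁ v₂ v₃ v₄ v₅ v₆ u₁ u₂ u₃ u₄ u₅ u₆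

open CategoryTheory CategoryTheory.Limits HomologicalComplex

noncomputable section

namespace K69.MVAbs

section Tau

open CategoryTheory.ComposableArrows CategoryTheory.Abelian HomologicalComplex.HomologySequence

variable {C : Type u₁} [Category.{v₁} C] [Abelian C] {ι : Type*} {c : ComplexShape ι}
  {S₁ S₂ : ShortComplex (HomologicalComplex C c)} (φ : S₁ ⟶ S₂)
  (hS₁ : S₁.ShortExact) (hS₂ : S₂.ShortExact)

include hS₁ hS₂

theorem mono_τ₁ (h₂ : QuasiIso φ.τ₂) (h₃ : QuasiIso φ.τ₃) (j : ι) : Mono (homologyMap φ.τ₁ j) := by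
  by_cases hj : ∃ i, c.Rel i j
  · obtain ⟨i, hij⟩ := hj
    apply mono_of_epi_of_mono_of_mono
        ((δ₀Functor ⋙ δlastFunctor).map (mapComposableArrows₅ φ hS₁ hS₂ i j hij))
    · exact (composableArrows₅_exact hS₁ i j hij).δ₀.δlast
    · exact (composableArrows₅_exact hS₂ i j hij).δ₀.δlast
    · change Epi (homologyMap φ.τ₂ i); infer_instance
    · change Mono (homologyMap φ.τ₃ i); infer_instance
    · change Mono (homologyMap φ.τ₂ j); infer_instance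
  · have := hS₁.mono_f
    have h1 : Mono (homologyMap S₁.f j) := mono_homologyMap_of_mono_of_not_rel S₁.f j (by simpa using hj)
    have h4 : homologyMap φ.τ₁ j ≫ homologyMap S₂.f j = homologyMap S₁.f j ≫ homologyMap φ.τ₂ j := by
      rw [← homologyMap_comp, ← homologyMap_comp, φ.comm₁₂]
    have h5 : Mono (homologyMap φ.τ₁ j ≫ homologyMap S₂.f j) := by
      rw [h4]; infer_instance
    exact mono_of_mono _ (homologyMap S₂.f j)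

theorem epi_τ₁ (h₂ : QuasiIso φ.τ₂) (h₃ : QuasiIso φ.τ₃) (j : ι) : Epi (homologyMap φ.τ₁ j) := by
  by_cases hj : ∃ i, c.Rel i j
  · obtain ⟨i, hij⟩ := hj
    apply epi_of_epi_of_epi_of_mono
        ((δ₀Functor ⋙ δ₀Functor).map (mapComposableArrows₅ φ hS₁ hS₂ i j hij))
    · exact (composableArrows₅_exact hS₁ i j hij).δ₀.δ₀
    · exact (composableArrows₅_exact hS₂ i j hij).δ₀.δ₀
    · change Epi (homologyMap φ.τ₃ i); infer_instance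
    · change Epi (homologyMap φ.τ₂ j); infer_instance
    · change Mono (homologyMap φ.τ₃ j); infer_instance
  · have := hS₁.mono_f
    have := hS₂.mono_f
    have h1 : Mono (homologyMap S₁.f j) := mono_homologyMap_of_mono_of_not_rel S₁.f j (by simpa using hj)
    have h2 : Mono (homologyMap S₂.f j) := mono_homologyMap_of_mono_of_not_rel S₂.f j (by simpa using hj)
    have hex := hS₁.homology_exact₂ j
    let k : S₂.X₁.homology j ⟶ S₁.X₂.homology j := homologyMap S₂.f j ≫ inv (homologyMap φ.τ₂ j)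
    have h4 : homologyMap φ.τ₁ j ≫ homologyMap S₂.f j = homologyMap S₁.f j ≫ homologyMap φ.τ₂ j := by
      rw [← homologyMap_comp, ← homologyMap_comp, φ.comm₁₂]
    have h5 : homologyMap φ.τ₂ j ≫ homologyMap S₂.g j = homologyMap S₁.g j ≫ homologyMap φ.τ₃ j := by
      rw [← homologyMap_comp, ← homologyMap_comp, φ.comm₂₃]
    have hk : k ≫ homologyMap S₁.g j = 0 := by
      rw [← cancel_mono (homologyMap φ.τ₃ j), Category.assoc, zero_comp, ← h5]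
      simp only [k, Category.assoc, IsIso.inv_hom_id_assoc]
      rw [← homologyMap_comp, S₂.zero, homologyMap_zero]
    have h6 : hex.lift k hk ≫ homologyMap S₁.f j = k := hex.lift_f k hk
    have h7 : hex.lift k hk ≫ homologyMap φ.τ₁ j = 𝟙 _ := by
      rw [← cancel_mono (homologyMap S₂.f j), Category.assoc, h4, reassoc_of% h6]
      simp [k]
    exact (SplitEpi.mk _ h7).epi

theorem quasiIso_τ₁ (h₂ : QuasiIso φ.τ₂) (h₃ : QuasiIso φ.τ₃) : QuasiIso φ.τ₁ := by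
  rw [quasiIso_iff]
  intro j
  rw [quasiIsoAt_iff_isIso_homologyMap]
  have := mono_τ₁ φ hS₁ hS₂ h₂ h₃ j
  have := epi_τ₁ φ hS₁ hS₂ h₂ h₃ j
  apply isIso_of_mono_of_epi

end Tau

theorem isIso_of_parts {C : Type u₁} [Category.{v₁} C] [Preadditive C] {X X₁ X₂ Y Y₁ Y₂ : C}
    {i₁ : X₁ ⟶ X} {i₂ : X₂ ⟶ X} {p₁ : X ⟶ X₁} {p₂ : X ⟶ X₂} (hX : p₁ ≫ i₁ + p₂ ≫ i₂ = 𝟙 X)
    (x₁₁ : i₁ ≫ p₁ = 𝟙 _) (x₁₂ : i₁ ≫ p₂ = 0) (x₂₁ : i₂ ≫ p₁ = 0) (x₂₂ : i₂ ≫ p₂ = 𝟙 _)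
    {j₁ : Y₁ ⟶ Y} {j₂ : Y₂ ⟶ Y} {q₁ : Y ⟶ Y₁} {q₂ : Y ⟶ Y₂} (hY : q₁ ≫ j₁ + q₂ ≫ j₂ = 𝟙 Y)
    (y₁₁ : j₁ ≫ q₁ = 𝟙 _) (y₁₂ : j₁ ≫ q₂ = 0) (y₂₁ : j₂ ≫ q₁ = 0) (y₂₂ : j₂ ≫ q₂ = 𝟙 _)
    (f : X ⟶ Y) (f₁ : X₁ ⟶ Y₁) (f₂ : X₂ ⟶ Y₂) (h₁ : i₁ ≫ f = f₁ ≫ j₁) (h₂ : i₂ ≫ f = f₂ ≫ j₂)
    [IsIso f₁] [IsIso f₂] : IsIso f := by
  have hf : f = p₁ ≫ f₁ ≫ j₁ + p₂ ≫ f₂ ≫ j₂ := by
    rw [← Category.id_comp f, ← hX, Preadditive.add_comp, Category.assoc, Category.assoc, h₁, h₂]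
  refine ⟨q₁ ≫ inv f₁ ≫ i₁ + q₂ ≫ inv f₂ ≫ i₂, ?_, ?_⟩
  · rw [hf]
    simp only [Preadditive.add_comp, Preadditive.comp_add, Category.assoc, reassoc_of% y₁₁, reassoc_of% y₁₂,
      reassoc_of% y₂₁, reassoc_of% y₂₂, IsIso.hom_inv_id_assoc, zero_comp, comp_zero, add_zero, zero_add, hX]
  · rw [hf]
    simp only [Preadditive.add_comp, Preadditive.comp_add, Category.assoc, reassoc_of% x₁₁, reassoc_of% x₁₂,
      reassoc_of% x₂₁, reassoc_of% x₂₂, IsIso.inv_hom_id_assoc, zero_comp, comp_zero, add_zero, zero_add, hY]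

section Th

variable {A : Type u₁} [Category.{v₁} A] [Abelian A]
  {A' : Type u₂} [Category.{v₂} A'] [Abelian A']
  {B : Type u₃} [Category.{v₃} B] [Abelian B]
  {B' : Type u₄} [Category.{v₄} B'] [Abelian B']
  {Φ : A' ⥤ A} {Ψ : A ⥤ B} {Φ₂ : A' ⥤ B'} {Ψ₂ : B' ⥤ B}
  (e : Φ ⋙ Ψ ≅ Φ₂ ⋙ Ψ₂) {L₂ : B ⥤ B'} (adj₂ : L₂ ⊣ Ψ₂)

/-- The transpose of `Ψ u` followed by `e`. -/
def tr {K : A} {M : A'} (u : K ⟶ Φ.obj M) : L₂.obj (Ψ.obj K) ⟶ Φ₂.obj M :=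
  (adj₂.homEquiv (Ψ.obj K) (Φ₂.obj M)).symm (Ψ.map u ≫ e.hom.app M)

theorem tr_comm {K₀ K₁ : A} {M₀ M₁ : A'} (a : K₀ ⟶ K₁) (b : M₀ ⟶ M₁) (x₀ : K₀ ⟶ Φ.obj M₀)
    (x₁ : K₁ ⟶ Φ.obj M₁) (h : x₀ ≫ Φ.map b = a ≫ x₁) :
    tr e adj₂ x₀ ≫ Φ₂.map b = L₂.map (Ψ.map a) ≫ tr e adj₂ x₁ := by
  have h4 : Ψ.map (Φ.map b) ≫ e.hom.app M₁ = e.hom.app M₀ ≫ Ψ₂.map (Φ₂.map b) := e.hom.naturality b
  rw [tr, tr, ← Adjunction.homEquiv_naturality_right_symm, ← Adjunction.homEquiv_naturality_left_symm]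
  congr 1
  rw [← Category.assoc, ← Ψ.map_comp, ← h, Ψ.map_comp, Category.assoc, Category.assoc, h4]

variable [Φ.Additive] [Ψ.Additive] [Φ₂.Additive] [L₂.Additive]

/-- The chain level base change map. -/
def Th {K : CochainComplex A ℕ} {M : CochainComplex A' ℕ}
    (x : K ⟶ (Φ.mapHomologicalComplex (.up ℕ)).obj M) :
    (L₂.mapHomologicalComplex (.up ℕ)).obj ((Ψ.mapHomologicalComplex (.up ℕ)).obj K) ⟶
      (Φ₂.mapHomologicalComplex (.up ℕ)).obj M where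
  f n := tr e adj₂ (x.f n)
  comm' i j _ := tr_comm e adj₂ (K.d i j) (M.d i j) (x.f i) (x.f j) (x.comm i j)

theorem Th_f {K : CochainComplex A ℕ} {M : CochainComplex A' ℕ}
    (x : K ⟶ (Φ.mapHomologicalComplex (.up ℕ)).obj M) (n : ℕ) :
    (Th e adj₂ x).f n = tr e adj₂ (x.f n) := rfl

theorem Th_naturality {K K' : CochainComplex A ℕ} {M M' : CochainComplex A' ℕ} (a : K ⟶ K') (b : M ⟶ M')
    (x : K ⟶ (Φ.mapHomologicalComplex (.up ℕ)).obj M) (x' : K' ⟶ (Φ.mapHomologicalComplex (.up ℕ)).obj M')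
    (h : x ≫ (Φ.mapHomologicalComplex (.up ℕ)).map b = a ≫ x') :
    Th e adj₂ x ≫ (Φ₂.mapHomologicalComplex (.up ℕ)).map b =
      (L₂.mapHomologicalComplex (.up ℕ)).map ((Ψ.mapHomologicalComplex (.up ℕ)).map a) ≫ Th e adj₂ x' := by
  ext n
  exact tr_comm e adj₂ (a.f n) (b.f n) (x.f n) (x'.f n) (HomologicalComplex.congr_hom h n)

theorem quasiIso_Th_biprod {K₁ K₂ : CochainComplex A ℕ} {M₁ M₂ : CochainComplex A' ℕ}
    (x₁ : K₁ ⟶ (Φ.mapHomologicalComplex (.up ℕ)).obj M₁) (x₂ : K₂ ⟶ (Φ.mapHomologicalComplex (.up ℕ)).obj M₂)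
    (h₁ : QuasiIso (Th e adj₂ x₁)) (h₂ : QuasiIso (Th e adj₂ x₂)) :
    QuasiIso (Th e adj₂ (biprod.desc (x₁ ≫ (Φ.mapHomologicalComplex (.up ℕ)).map (biprod.inl : M₁ ⟶ M₁ ⊞ M₂))
      (x₂ ≫ (Φ.mapHomologicalComplex (.up ℕ)).map (biprod.inr : M₂ ⟶ M₁ ⊞ M₂)))) := by
  rw [quasiIso_iff]
  intro q
  rw [quasiIsoAt_iff_isIso_homologyMap]
  let G : CochainComplex A ℕ ⥤ B' := Ψ.mapHomologicalComplex (.up ℕ) ⋙ L₂.mapHomologicalComplex (.up ℕ) ⋙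
    homologyFunctor B' (.up ℕ) q
  let G' : CochainComplex A' ℕ ⥤ B' := Φ₂.mapHomologicalComplex (.up ℕ) ⋙ homologyFunctor B' (.up ℕ) q
  have hG : G.Additive := inferInstance
  have hG' : G'.Additive := inferInstance
  have n₁ := Th_naturality e adj₂ (biprod.inl : K₁ ⟶ K₁ ⊞ K₂) (biprod.inl : M₁ ⟶ M₁ ⊞ M₂) x₁
    (biprod.desc (x₁ ≫ (Φ.mapHomologicalComplex (.up ℕ)).map (biprod.inl : M₁ ⟶ M₁ ⊞ M₂))
      (x₂ ≫ (Φ.mapHomologicalComplex (.up ℕ)).map (biprod.inr : M₂ ⟶ M₁ ⊞ M₂))) (by rw [biprod.inl_desc])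
  have n₂ := Th_naturality e adj₂ (biprod.inr : K₂ ⟶ K₁ ⊞ K₂) (biprod.inr : M₂ ⟶ M₁ ⊞ M₂) x₂
    (biprod.desc (x₁ ≫ (Φ.mapHomologicalComplex (.up ℕ)).map (biprod.inl : M₁ ⟶ M₁ ⊞ M₂))
      (x₂ ≫ (Φ.mapHomologicalComplex (.up ℕ)).map (biprod.inr : M₂ ⟶ M₁ ⊞ M₂))) (by rw [biprod.inr_desc])
  have i₁ : IsIso (homologyMap (Th e adj₂ x₁) q) := inferInstance
  have i₂ : IsIso (homologyMap (Th e adj₂ x₂) q) := inferInstance
  have m₁ := congrArg (fun z => homologyMap z q) n₁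
  have m₂ := congrArg (fun z => homologyMap z q) n₂
  simp only [homologyMap_comp] at m₁ m₂
  refine isIso_of_parts (i₁ := G.map (biprod.inl : K₁ ⟶ K₁ ⊞ K₂)) (i₂ := G.map (biprod.inr : K₂ ⟶ K₁ ⊞ K₂))
    (p₁ := G.map biprod.fst) (p₂ := G.map biprod.snd) ?_ ?_ ?_ ?_ ?_
    (j₁ := G'.map (biprod.inl : M₁ ⟶ M₁ ⊞ M₂)) (j₂ := G'.map (biprod.inr : M₂ ⟶ M₁ ⊞ M₂))
    (q₁ := G'.map biprod.fst) (q₂ := G'.map biprod.snd) ?_ ?_ ?_ ?_ ?_ _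
    (homologyMap (Th e adj₂ x₁) q) (homologyMap (Th e adj₂ x₂) q) m₁.symm m₂.symm
  · rw [← G.map_comp, ← G.map_comp, ← G.map_add, biprod.total, G.map_id]
  · rw [← G.map_comp, biprod.inl_fst, G.map_id]
  · rw [← G.map_comp, biprod.inl_snd, G.map_zero]
  · rw [← G.map_comp, biprod.inr_fst, G.map_zero]
  · rw [← G.map_comp, biprod.inr_snd, G.map_id]
  · rw [← G'.map_comp, ← G'.map_comp, ← G'.map_add, biprod.total, G'.map_id]
  · rw [← G'.map_comp, biprod.inl_fst, G'.map_id]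
  · rw [← G'.map_comp, biprod.inl_snd, G'.map_zero]
  · rw [← G'.map_comp, biprod.inr_fst, G'.map_zero]
  · rw [← G'.map_comp, biprod.inr_snd, G'.map_id]

theorem map_shortExact {S : ShortComplex (CochainComplex A ℕ)} (hS : S.ShortExact)
    (hI : ∀ n, Injective (S.X₁.X n)) (T : A ⥤ B) [T.Additive] :
    (S.map (T.mapHomologicalComplex (.up ℕ))).ShortExact := by
  refine shortExact_of_degreewise_shortExact _ fun n => ?_
  have h1 : (S.map (HomologicalComplex.eval A (.up ℕ) n)).ShortExact := hS.map_of_exact _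
  have : Injective (S.map (HomologicalComplex.eval A (.up ℕ) n)).X₁ := hI n
  exact (h1.splittingOfInjective.map T).shortExact

variable [PreservesFiniteLimits L₂] [PreservesFiniteColimits L₂]

theorem quasiIso_Th_of_shortExact {S : ShortComplex (CochainComplex A ℕ)} {S' : ShortComplex (CochainComplex A' ℕ)}
    (hS : S.ShortExact) (hS' : S'.ShortExact) (hI : ∀ n, Injective (S.X₁.X n))
    (hI' : ∀ n, Injective (S'.X₁.X n)) (φ : S ⟶ S'.map (Φ.mapHomologicalComplex (.up ℕ)))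
    (h₂ : QuasiIso (Th (M := S'.X₂) e adj₂ φ.τ₂)) (h₃ : QuasiIso (Th (M := S'.X₃) e adj₂ φ.τ₃)) :
    QuasiIso (Th (M := S'.X₁) e adj₂ φ.τ₁) := by
  have hT : ((S.map (Ψ.mapHomologicalComplex (.up ℕ))).map (L₂.mapHomologicalComplex (.up ℕ))).ShortExact := by
    have h1 := map_shortExact hS hI Ψ
    refine shortExact_of_degreewise_shortExact _ fun n => ?_
    have h2 : ((S.map (Ψ.mapHomologicalComplex (.up ℕ))).map
      (HomologicalComplex.eval B (.up ℕ) n)).ShortExact := h1.map_of_exact _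
    exact h2.map_of_exact L₂
  have hT' : (S'.map (Φ₂.mapHomologicalComplex (.up ℕ))).ShortExact := map_shortExact hS' hI' Φ₂
  let χ : (S.map (Ψ.mapHomologicalComplex (.up ℕ))).map (L₂.mapHomologicalComplex (.up ℕ)) ⟶
      S'.map (Φ₂.mapHomologicalComplex (.up ℕ)) :=
    { τ₁ := Th (M := S'.X₁) e adj₂ φ.τ₁
      τ₂ := Th (M := S'.X₂) e adj₂ φ.τ₂
      τ₃ := Th (M := S'.X₃) e adj₂ φ.τ₃
      comm₁₂ := Th_naturality e adj₂ S.f S'.f _ _ φ.comm₁₂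
      comm₂₃ := Th_naturality e adj₂ S.g S'.g _ _ φ.comm₂₃ }
  exact quasiIso_τ₁ χ hT hT' h₂ h₃

end Th

section MV

theorem shortExact_cx {C : Type u₁} [Category.{v₁} C] [Abelian C] {ι : Type*} {c : ComplexShape ι}
    {K K₁ K₂ K₃ : HomologicalComplex C c} (a₁ : K ⟶ K₁) (a₂ : K ⟶ K₂) (b₁ : K₁ ⟶ K₃) (b₂ : K₂ ⟶ K₃)
    (w : biprod.lift a₁ a₂ ≫ biprod.desc b₁ (-b₂) = 0)
    (w' : ∀ n, biprod.lift (a₁.f n) (a₂.f n) ≫ biprod.desc (b₁.f n) (-(b₂.f n)) = 0)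
    (h : ∀ n, (ShortComplex.mk _ _ (w' n)).ShortExact) : (ShortComplex.mk _ _ w).ShortExact := by
  refine shortExact_of_degreewise_shortExact _ fun n => ?_
  refine ShortComplex.shortExact_of_iso ?_ (h n)
  refine ShortComplex.isoMk (Iso.refl _) (biprodXIso K₁ K₂ n).symm (Iso.refl _) ?_ ?_
  · change 𝟙 _ ≫ (biprod.lift a₁ a₂).f n = biprod.lift (a₁.f n) (a₂.f n) ≫ (biprodXIso K₁ K₂ n).inv
    rw [Category.id_comp, Iso.eq_comp_inv]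
    apply biprod.hom_ext
    · rw [Category.assoc, biprodXIso_hom_fst, biprod.lift_fst, ← comp_f, biprod.lift_fst]
    · rw [Category.assoc, biprodXIso_hom_snd, biprod.lift_snd, ← comp_f, biprod.lift_snd]
  · change (biprodXIso K₁ K₂ n).inv ≫ (biprod.desc b₁ (-b₂)).f n =
      biprod.desc (b₁.f n) (-(b₂.f n)) ≫ 𝟙 _
    rw [Category.comp_id]
    apply biprod.hom_ext'
    · rw [inl_biprodXIso_inv_assoc, biprod.inl_desc, ← comp_f, biprod.inl_desc]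
    · rw [inr_biprodXIso_inv_assoc, biprod.inr_desc, ← comp_f, biprod.inr_desc]
      rfl

variable {A : Type u₁} [Category.{v₁} A] [Abelian A]
  {A' : Type u₂} [Category.{v₂} A'] [Abelian A']
  {B : Type u₃} [Category.{v₃} B] [Abelian B]
  {B' : Type u₄} [Category.{v₄} B'] [Abelian B']
  {Φ : A' ⥤ A} {Ψ : A ⥤ B} {Φ₂ : A' ⥤ B'} {Ψ₂ : B' ⥤ B}
  (e : Φ ⋙ Ψ ≅ Φ₂ ⋙ Ψ₂) {L₂ : B ⥤ B'} (adj₂ : L₂ ⊣ Ψ₂)
  [Φ.Additive] [Ψ.Additive] [Φ₂.Additive] [L₂.Additive]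
  [PreservesFiniteLimits L₂] [PreservesFiniteColimits L₂]
  {K K₁ K₂ K₃ : CochainComplex A ℕ} (a₁ : K ⟶ K₁) (a₂ : K ⟶ K₂) (b₁ : K₁ ⟶ K₃) (b₂ : K₂ ⟶ K₃)
  (w : biprod.lift a₁ a₂ ≫ biprod.desc b₁ (-b₂) = 0)
  (hS : (ShortComplex.mk _ _ w).ShortExact)
  {M M₁ M₂ M₃ : CochainComplex A' ℕ} (a₁' : M ⟶ M₁) (a₂' : M ⟶ M₂) (b₁' : M₁ ⟶ M₃) (b₂' : M₂ ⟶ M₃)
  (w' : biprod.lift a₁' a₂' ≫ biprod.desc b₁' (-b₂') = 0)
  (hS' : (ShortComplex.mk _ _ w').ShortExact)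

include hS hS' in
/-- The Mayer-Vietoris argument. -/
theorem quasiIso_Th_mv (hI : ∀ n, Injective (K.X n)) (hI' : ∀ n, Injective (M.X n))
    (x : K ⟶ (Φ.mapHomologicalComplex (.up ℕ)).obj M) (x₁ : K₁ ⟶ (Φ.mapHomologicalComplex (.up ℕ)).obj M₁)
    (x₂ : K₂ ⟶ (Φ.mapHomologicalComplex (.up ℕ)).obj M₂) (x₃ : K₃ ⟶ (Φ.mapHomologicalComplex (.up ℕ)).obj M₃)
    (c₁ : x ≫ (Φ.mapHomologicalComplex (.up ℕ)).map a₁' = a₁ ≫ x₁)
    (c₂ : x ≫ (Φ.mapHomologicalComplex (.up ℕ)).map a₂' = a₂ ≫ x₂)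
    (d₁ : x₁ ≫ (Φ.mapHomologicalComplex (.up ℕ)).map b₁' = b₁ ≫ x₃)
    (d₂ : x₂ ≫ (Φ.mapHomologicalComplex (.up ℕ)).map b₂' = b₂ ≫ x₃)
    (h₁ : QuasiIso (Th e adj₂ x₁)) (h₂ : QuasiIso (Th e adj₂ x₂)) (h₃ : QuasiIso (Th e adj₂ x₃)) :
    QuasiIso (Th e adj₂ x) := by
  let Φc := Φ.mapHomologicalComplex (ComplexShape.up ℕ)
  have hm₁ : x ≫ Φc.map (biprod.lift a₁' a₂') = biprod.lift a₁ a₂ ≫
      biprod.desc (x₁ ≫ Φc.map (biprod.inl : M₁ ⟶ M₁ ⊞ M₂)) (x₂ ≫ Φc.map (biprod.inr : M₂ ⟶ M₁ ⊞ M₂)) := by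
    rw [biprod.lift_desc, biprod.lift_eq, Functor.map_add, Preadditive.comp_add, Functor.map_comp,
      Functor.map_comp, reassoc_of% c₁, reassoc_of% c₂]
  have hm₂ : biprod.desc (x₁ ≫ Φc.map (biprod.inl : M₁ ⟶ M₁ ⊞ M₂)) (x₂ ≫ Φc.map (biprod.inr : M₂ ⟶ M₁ ⊞ M₂)) ≫
      Φc.map (biprod.desc b₁' (-b₂')) = biprod.desc b₁ (-b₂) ≫ x₃ := by
    apply biprod.hom_ext'
    · rw [biprod.inl_desc_assoc, biprod.inl_desc_assoc, Category.assoc, ← Functor.map_comp,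
        biprod.inl_desc, d₁]
    · rw [biprod.inr_desc_assoc, biprod.inr_desc_assoc, Category.assoc, ← Functor.map_comp,
        biprod.inr_desc, Functor.map_neg, Preadditive.comp_neg, d₂, Preadditive.neg_comp]
  let φ : ShortComplex.mk _ _ w ⟶ (ShortComplex.mk _ _ w').map Φc :=
    { τ₁ := x
      τ₂ := biprod.desc (x₁ ≫ Φc.map (biprod.inl : M₁ ⟶ M₁ ⊞ M₂)) (x₂ ≫ Φc.map (biprod.inr : M₂ ⟶ M₁ ⊞ M₂))
      τ₃ := x₃
      comm₁₂ := hm₁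
      comm₂₃ := hm₂ }
  exact quasiIso_Th_of_shortExact e adj₂ hS hS' hI hI' φ (quasiIso_Th_biprod e adj₂ x₁ x₂ h₁ h₂) h₃

end MV

section Bc

variable {A : Type u₁} [Category.{v₁} A] [Abelian A] [HasInjectiveResolutions A]
  {A' : Type u₂} [Category.{v₂} A'] [Abelian A'] [HasInjectiveResolutions A']
  {B : Type u₃} [Category.{v₃} B] [Abelian B]
  {B' : Type u₄} [Category.{v₄} B'] [Abelian B']
  {Φ : A' ⥤ A} [Φ.Additive] [Φ.PreservesInjectiveObjects] {Ψ : A ⥤ B} [Ψ.Additive]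
  {Φ₂ : A' ⥤ B'} [Φ₂.Additive] {Ψ₂ : B' ⥤ B} [Ψ₂.Additive] [PreservesFiniteLimits Ψ₂]
  (e : Φ ⋙ Ψ ≅ Φ₂ ⋙ Ψ₂)
  {L : A ⥤ A'} {L₂ : B ⥤ B'} (adj : L ⊣ Φ) (adj₂ : L₂ ⊣ Ψ₂)
  [L₂.Additive] [PreservesFiniteLimits L₂] [PreservesFiniteColimits L₂]

open K557.RDerRes K557.BcAbs in
theorem isIso_bc_iff_Th (q : ℕ) (F : A) (I : InjectiveResolution F) (J : InjectiveResolution (L.obj F))
    (x : I.cocomplex ⟶ (Φ.mapHomologicalComplex (.up ℕ)).obj J.cocomplex)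
    (hx : I.ι.f 0 ≫ x.f 0 = adj.unit.app F ≫ Φ.map (J.ι.f 0)) :
    IsIso (bc e adj adj₂ q F) ↔ IsIso (homologyMap (Th e adj₂ x) q) := by
  have h1 := adjMap_eq e (adj.unit.app F) q I J x hx
  let χ := (Ψ.mapHomologicalComplex (.up ℕ)).map x ≫ ecx e J.cocomplex
  have h2 : adjMap e (adj.unit.app F) q = (iso Ψ I q).hom ≫
      (homologyMap χ q ≫ RDer.homologyComparison Ψ₂ ((Φ₂.mapHomologicalComplex (.up ℕ)).obj J.cocomplex) q) ≫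
        Ψ₂.map (iso Φ₂ J q).inv := by
    rw [h1, tail, homologyMap_comp]
    simp only [Category.assoc]
  have h3 : bc e adj adj₂ q F = L₂.map (iso Ψ I q).hom ≫ (adj₂.homEquiv _ _).symm (homologyMap χ q ≫
      RDer.homologyComparison Ψ₂ ((Φ₂.mapHomologicalComplex (.up ℕ)).obj J.cocomplex) q) ≫
        (iso Φ₂ J q).inv := by
    rw [bc, h2, Adjunction.homEquiv_naturality_left_symm, Adjunction.homEquiv_naturality_right_symm]
  rw [h3, isIso_comp_left_iff, isIso_comp_right_iff]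
  exact K558.HCmp.isIso_transpose_iff adj₂ χ (Th e adj₂ x) q rfl

end Bc

end K69.MVAbs
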