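import Groth.Agent.AlgSp.K646.MVShriek
import Mathlib.Algebra.Homology.ShortComplex.ExactFunctor
import Mathlib.CategoryTheory.Abelian.Refinements
import Mathlib.CategoryTheory.Preadditive.Injective.Basic

/-!
# Mayer-Vietoris sequence of right adjoints on injective objects

`LU ⊣ RU`, `LV ⊣ RV`, `LP ⊣ RP`, natural `lU : LP ⟶ LU`, `lV : LP ⟶ LV`, `cU : LU N ⟶ N`, `cV`; if
`0 ⟶ LP N ⟶ LU N ⊞ LV N ⟶ N ⟶ 0` is exact for all `N` then `0 ⟶ G ⟶ RU G ⊞ RV G ⟶ RP G ⟶ 0` is exact for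
injective `G`.
-/

set_option autoImplicit false

universe v u

open CategoryTheory CategoryTheory.Limits

namespace K69.MVInj

variable {C : Type u} [Category.{v} C]

section

variable {LU LP RU RP : C ⥤ C} (aU : LU ⊣ RU) (aP : LP ⊣ RP) (lU : LP ⟶ LU)

/-- The restriction map. -/
noncomputable def rho : RU ⟶ RP := conjugateEquiv aU aP lU

theorem homEquiv_rho {F G : C} (f : LU.obj F ⟶ G) :
    aU.homEquiv F G f ≫ (rho aU aP lU).app G = aP.homEquiv F G (lU.app F ≫ f) := by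
  have h := K646.MVShriek.homEquiv_lam aU aP (rho aU aP lU) f
  rw [rho, Equiv.symm_apply_apply] at h
  exact h.symm

variable (cU : ∀ F : C, LU.obj F ⟶ F) (nU : ∀ F : C, F ⟶ RU.obj F)
  (hU : ∀ F : C, aU.unit.app F ≫ RU.map (cU F) = nU F)
  (hnU : ∀ {F G : C} (f : F ⟶ G), nU F ≫ RU.map f = f ≫ nU G)
  (cP : ∀ F : C, LP.obj F ⟶ F) (nP : ∀ F : C, F ⟶ RP.obj F)
  (hP : ∀ F : C, aP.unit.app F ≫ RP.map (cP F) = nP F)
  (hnP : ∀ {F G : C} (f : F ⟶ G), nP F ≫ RP.map f = f ≫ nP G)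
  (hc : ∀ F : C, lU.app F ≫ cU F = cP F)

include hU hnU hP hnP hc in
theorem unit_rho (G : C) : nU G ≫ (rho aU aP lU).app G = nP G := by
  have h1 := K646.MVShriek.homEquiv_e aU cU nU hU hnU (𝟙 G)
  have h2 := K646.MVShriek.homEquiv_e aP cP nP hP hnP (𝟙 G)
  rw [Category.comp_id, Category.id_comp] at h1 h2
  rw [← h1, ← h2, homEquiv_rho, hc]

end

theorem fst_eq_snd {D : Type u} [Category.{v} D] [Preadditive D] [HasBinaryBiproducts D] {N M₁ M₂ P : D}
    (a : M₁ ⟶ P) (b : M₂ ⟶ P) (x : N ⟶ M₁ ⊞ M₂) (h : x ≫ biprod.desc a (-b) = 0) :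
    (x ≫ biprod.fst) ≫ a = (x ≫ biprod.snd) ≫ b := by
  rw [biprod.desc_eq, Preadditive.comp_add, Preadditive.comp_neg, Preadditive.comp_neg,
      ← sub_eq_add_neg, sub_eq_zero] at h
  simpa only [Category.assoc] using h

variable [Abelian C] {LU LV LP RU RV RP : C ⥤ C} (aU : LU ⊣ RU) (aV : LV ⊣ RV) (aP : LP ⊣ RP)
  [RU.Additive] [RV.Additive] [RP.Additive]
  (cU : ∀ F : C, LU.obj F ⟶ F) (nU : ∀ F : C, F ⟶ RU.obj F)
  (hU : ∀ F : C, aU.unit.app F ≫ RU.map (cU F) = nU F)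
  (hnU : ∀ {F G : C} (f : F ⟶ G), nU F ≫ RU.map f = f ≫ nU G)
  (cV : ∀ F : C, LV.obj F ⟶ F) (nV : ∀ F : C, F ⟶ RV.obj F)
  (hV : ∀ F : C, aV.unit.app F ≫ RV.map (cV F) = nV F)
  (hnV : ∀ {F G : C} (f : F ⟶ G), nV F ≫ RV.map f = f ≫ nV G)
  (cP : ∀ F : C, LP.obj F ⟶ F) (nP : ∀ F : C, F ⟶ RP.obj F)
  (hP : ∀ F : C, aP.unit.app F ≫ RP.map (cP F) = nP F)
  (hnP : ∀ {F G : C} (f : F ⟶ G), nP F ≫ RP.map f = f ≫ nP G)
  (lU : LP ⟶ LU) (lV : LP ⟶ LV)
  (hcU : ∀ F : C, lU.app F ≫ cU F = cP F) (hcV : ∀ F : C, lV.app F ≫ cV F = cP F)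

omit [RU.Additive] [RV.Additive] [RP.Additive] in
include hU hnU hV hnV hP hnP hcU hcV in
theorem zero (G : C) : biprod.lift (nU G) (nV G) ≫
    biprod.desc ((rho aU aP lU).app G) (-((rho aV aP lV).app G)) = 0 := by
  rw [biprod.lift_desc, Preadditive.comp_neg, unit_rho aU aP lU cU nU hU hnU cP nP hP hnP hcU,
    unit_rho aV aP lV cV nV hV hnV cP nP hP hnP hcV, add_neg_cancel]

include hU hV hnU hnV in
theorem mono (he : ∀ N : C, Epi (biprod.desc (cU N) (cV N))) (G : C) :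
    Mono (biprod.lift (nU G) (nV G)) := by
  refine Preadditive.mono_of_cancel_zero _ fun {N} x hx => ?_
  have e := he N
  have h1 : x ≫ nU G = 0 := by
    have := congrArg (fun z => z ≫ biprod.fst) hx
    simpa using this
  have h2 : x ≫ nV G = 0 := by
    have := congrArg (fun z => z ≫ biprod.snd) hx
    simpa using this
  have k1 : cU N ≫ x = 0 := by
    apply (aU.homEquiv N G).injective
    rw [K646.MVShriek.homEquiv_e aU cU nU hU hnU x, h1, Adjunction.homEquiv_unit, Functor.map_zero, comp_zero]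
  have k2 : cV N ≫ x = 0 := by
    apply (aV.homEquiv N G).injective
    rw [K646.MVShriek.homEquiv_e aV cV nV hV hnV x, h2, Adjunction.homEquiv_unit, Functor.map_zero, comp_zero]
  rw [← cancel_epi (biprod.desc (cU N) (cV N)), comp_zero]
  apply biprod.hom_ext'
  · rw [biprod.inl_desc_assoc, k1, comp_zero]
  · rw [biprod.inr_desc_assoc, k2, comp_zero]

include hU hnU hV hnV in
theorem shortExact (w : ∀ N : C, biprod.lift (lU.app N) (-(lV.app N)) ≫ biprod.desc (cU N) (cV N) = 0)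
    (hS : ∀ N : C, (ShortComplex.mk _ _ (w N)).ShortExact) (G : C) [Injective G]
    (z : biprod.lift (nU G) (nV G) ≫
      biprod.desc ((rho aU aP lU).app G) (-((rho aV aP lV).app G)) = 0) :
    (ShortComplex.mk _ _ z).ShortExact := by
  have hm : Mono (biprod.lift (nU G) (nV G)) :=
    mono aU aV cU nU hU hnU cV nV hV hnV (fun N => (hS N).epi_g) G
  have he : Epi (biprod.desc ((rho aU aP lU).app G) (-((rho aV aP lV).app G))) := by
    have hmono : Mono (biprod.lift (lU.app (RP.obj G)) (-(lV.app (RP.obj G)))) := (hS (RP.obj G)).mono_f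
    let y : LP.obj (RP.obj G) ⟶ G := (aP.homEquiv _ _).symm (𝟙 _)
    let t : LU.obj (RP.obj G) ⊞ LV.obj (RP.obj G) ⟶ G :=
      Injective.factorThru y (biprod.lift (lU.app (RP.obj G)) (-(lV.app (RP.obj G))))
    have ht : biprod.lift (lU.app (RP.obj G)) (-(lV.app (RP.obj G))) ≫ t = y :=
      Injective.comp_factorThru _ _
    have ht' : lU.app (RP.obj G) ≫ biprod.inl ≫ t - lV.app (RP.obj G) ≫ biprod.inr ≫ t = y := by
      rw [← ht, biprod.lift_eq, Preadditive.add_comp, Category.assoc, Category.assoc, Preadditive.neg_comp,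
        sub_eq_add_neg]
    let σ : RP.obj G ⟶ RU.obj G ⊞ RV.obj G :=
      biprod.lift (aU.homEquiv _ _ (biprod.inl ≫ t)) (aV.homEquiv _ _ (biprod.inr ≫ t))
    have hσ : σ ≫ biprod.desc ((rho aU aP lU).app G) (-((rho aV aP lV).app G)) = 𝟙 _ := by
      have h1 : aP.homEquiv (RP.obj G) G (lU.app (RP.obj G) ≫ biprod.inl ≫ t) -
          aP.homEquiv (RP.obj G) G (lV.app (RP.obj G) ≫ biprod.inr ≫ t) =
          aP.homEquiv (RP.obj G) G y := by
        rw [← ht', Adjunction.homEquiv_unit, Adjunction.homEquiv_unit, Adjunction.homEquiv_unit,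
          Functor.map_sub, Preadditive.comp_sub]
      rw [biprod.lift_desc, Preadditive.comp_neg, homEquiv_rho, homEquiv_rho, ← sub_eq_add_neg, h1,
        Equiv.apply_symm_apply]
    exact (SplitEpi.mk σ hσ).epi
  refine ShortComplex.ShortExact.mk' ?_ hm he
  rw [ShortComplex.exact_iff_exact_up_to_refinements]
  intro N x hx
  refine ⟨N, 𝟙 _, inferInstance, ?_⟩
  have hx' : (x ≫ biprod.fst) ≫ (rho aU aP lU).app G = (x ≫ biprod.snd) ≫ (rho aV aP lV).app G := by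
    exact fst_eq_snd _ _ x hx
  let y₁ : LU.obj N ⟶ G := (aU.homEquiv _ _).symm (x ≫ biprod.fst)
  let y₂ : LV.obj N ⟶ G := (aV.homEquiv _ _).symm (x ≫ biprod.snd)
  have h1 : lU.app N ≫ y₁ = lV.app N ≫ y₂ := by
    apply (aP.homEquiv N G).injective
    rw [← homEquiv_rho aU aP, ← homEquiv_rho aV aP, Equiv.apply_symm_apply, Equiv.apply_symm_apply, hx']
  have h2 : biprod.lift (lU.app N) (-(lV.app N)) ≫ biprod.desc y₁ y₂ = 0 := by
    rw [biprod.lift_desc, Preadditive.neg_comp, h1, add_neg_cancel]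
  have hepi : Epi (biprod.desc (cU N) (cV N)) := (hS N).epi_g
  let y : N ⟶ G := (hS N).exact.desc (biprod.desc y₁ y₂) h2
  have hy : biprod.desc (cU N) (cV N) ≫ y = biprod.desc y₁ y₂ := (hS N).exact.g_desc _ h2
  have hy₁ : cU N ≫ y = y₁ := by
    have := congrArg (fun z => biprod.inl ≫ z) hy
    simpa using this
  have hy₂ : cV N ≫ y = y₂ := by
    have := congrArg (fun z => biprod.inr ≫ z) hy
    simpa using this
  have hz₁ : y ≫ nU G = x ≫ biprod.fst := by
    rw [← K646.MVShriek.homEquiv_e aU cU nU hU hnU y, hy₁, Equiv.apply_symm_apply]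
  have hz₂ : y ≫ nV G = x ≫ biprod.snd := by
    rw [← K646.MVShriek.homEquiv_e aV cV nV hV hnV y, hy₂, Equiv.apply_symm_apply]
  refine ⟨y, ?_⟩
  rw [Category.id_comp]
  apply biprod.hom_ext
  · refine hz₁.symm.trans ?_
    simp
  · refine hz₂.symm.trans ?_
    simp

end K69.MVInj
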