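import Groth.Agent.ECM.K69.MVOpen
import Groth.Agent.ECM.K69.MVInj
import Groth.Agent.Etcore.MVShriek
import Groth.Agent.EtpbcB.BCCalc
import Groth.Agent.SGA4h.K557.BcQ
import Groth.Agent.Sga4h.FinRedOC
import Groth.Agent.Sga4h.PullInj

/-!
# Mayer-Vietoris for the base change morphisms `EtBC.bcQ`

`isIso_bcQ_of_cover`: base change for the restrictions to two open subschemes covering the source and to their
intersection implies base change.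
-/

set_option autoImplicit false
set_option backward.isDefEq.respectTransparency false
universe u
open CategoryTheory CategoryTheory.Limits AlgebraicGeometry Opposite

namespace K69.MVEt

open K69.MVAbs K69.MVOpen Groth.Agent.EtpbcB Groth.Agent.Etcore.MVShriek HomologicalComplex
open scoped Groth.Agent.Sga4B.EtAbInst

section Seq

variable {U V W X : Scheme.{u}} (j : U ⟶ X) [IsOpenImmersion j] (k : V ⟶ X) [IsOpenImmersion k]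
  (w : W ⟶ X) [IsOpenImmersion w]

/-- `j_* j^*` -/
noncomputable abbrev T {U X : Scheme.{u}} (j : U ⟶ X) : EtCoh.Ab X ⥤ EtCoh.Ab X :=
  EtCoh.pull j ⋙ EtCoh.push j

/-- `j_! j^* ⊣ j_* j^*` -/
noncomputable def aPT : EtCoh.pull j ⋙ EtShriek.extZero j ⊣ T j := (EtCoh.pullPushAdj j).comp (adj j)

/-- The unit. -/
noncomputable abbrev eta {U X : Scheme.{u}} (j : U ⟶ X) (G : EtCoh.Ab X) : G ⟶ (T j).obj G :=
  (EtCoh.pullPushAdj j).unit.app G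

theorem eta_nat {U X : Scheme.{u}} (j : U ⟶ X) {F G : EtCoh.Ab X} (f : F ⟶ G) :
    eta j F ≫ (T j).map f = f ≫ eta j G := ((EtCoh.pullPushAdj j).unit.naturality f).symm

theorem unit_map_c (F : EtCoh.Ab X) : (aPT j).unit.app F ≫ (T j).map (c j F) = eta j F :=
  K646.MVShriek.unit_comp (EtCoh.pullPushAdj j) (adj j) F

variable (hjw : Set.range w ⊆ Set.range j)

/-- `w_! w^* ⟶ j_! j^*` -/
noncomputable def caNat : EtCoh.pull w ⋙ EtShriek.extZero w ⟶ EtCoh.pull j ⋙ EtShriek.extZero j where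
  app Z := ca j w hjw Z
  naturality Z Z' f := by
    have hm := mono_c j Z'
    rw [← cancel_mono (c j Z')]
    have h1 : (EtCoh.pull j ⋙ EtShriek.extZero j).map f ≫ c j Z' = c j Z ≫ f :=
      (adj j).counit.naturality f
    have h2 : (EtCoh.pull w ⋙ EtShriek.extZero w).map f ≫ c w Z' = c w Z ≫ f :=
      (adj w).counit.naturality f
    rw [Category.assoc, Category.assoc, ca_c, h1, h2, ← Category.assoc, ca_c]

/-- `j_* j^* ⟶ w_* w^*` -/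
noncomputable def rho : T j ⟶ T w := K69.MVInj.rho (aPT j) (aPT w) (caNat j w hjw)

theorem eta_rho (G : EtCoh.Ab X) : eta j G ≫ (rho j w hjw).app G = eta w G :=
  K69.MVInj.unit_rho (aPT j) (aPT w) (caNat j w hjw) (fun F => c j F) (fun F => eta j F)
    (unit_map_c j) (eta_nat j) (fun F => c w F) (fun F => eta w F) (unit_map_c w) (eta_nat w)
    (fun F => ca_c j w hjw F) G

/-- Morphisms from `j_* j^* G` to `w_* N`. -/
theorem hom_ext_eta (hjw : Set.range w ⊆ Set.range j) {G : EtCoh.Ab X} {N : EtCoh.Ab W}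
    {f g : (T j).obj G ⟶ (EtCoh.push w).obj N} (h : eta j G ≫ f = eta j G ≫ g) : f = g := by
  let a : W ⟶ U := IsOpenImmersion.lift j w hjw
  have ha : a ≫ j = w := IsOpenImmersion.lift_fac j w hjw
  have h1 : IsIso ((EtCoh.pull j).map (eta j G)) := by
    have h0 : IsIso ((EtCoh.pullPushAdj j).counit.app ((EtCoh.pull j).obj G)) := inferInstance
    exact IsIso.of_isIso_fac_right (h := 𝟙 _) ((EtCoh.pullPushAdj j).left_triangle_components G)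
  have h2 : IsIso ((EtCoh.pull w).map (eta j G)) :=
    (NatIso.isIso_map_iff (Groth.Agent.Etcore.PullCoh.theta a j w ha) (eta j G)).1
      (inferInstanceAs (IsIso ((EtCoh.pull a).map ((EtCoh.pull j).map (eta j G)))))
  apply ((EtCoh.pullPushAdj w).homEquiv _ _).symm.injective
  rw [← cancel_epi ((EtCoh.pull w).map (eta j G)), ← Adjunction.homEquiv_naturality_left_symm,
    ← Adjunction.homEquiv_naturality_left_symm, h]

theorem range_sub₁ (hjk : Set.range w = Set.range j ∩ Set.range k) : Set.range w ⊆ Set.range j :=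
  hjk ▸ Set.inter_subset_left

theorem range_sub₂ (hjk : Set.range w = Set.range j ∩ Set.range k) : Set.range w ⊆ Set.range k :=
  hjk ▸ Set.inter_subset_right

variable (hjk : Set.range w = Set.range j ∩ Set.range k) (hcov : Set.range j ∪ Set.range k = Set.univ)

theorem zero (G : EtCoh.Ab X) : biprod.lift (eta j G) (eta k G) ≫
    biprod.desc ((rho j w (hj_of j k w hjk)).app G) (-((rho k w (hk_of j k w hjk)).app G)) = 0 := by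
  rw [biprod.lift_desc, Preadditive.comp_neg, eta_rho, eta_rho, add_neg_cancel]

include hcov in
theorem shortExact (G : EtCoh.Ab X) [Injective G] :
    (ShortComplex.mk _ _ (zero j k w hjk G)).ShortExact :=
  K69.MVInj.shortExact (aPT j) (aPT k) (aPT w) (fun F => c j F) (fun F => eta j F)
    (unit_map_c j) (eta_nat j) (fun F => c k F) (fun F => eta k F)
    (unit_map_c k) (eta_nat k) (caNat j w (hj_of j k w hjk)) (caNat k w (hk_of j k w hjk))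
    (fun N => zero_mv j k w hjk N) (fun N => shortExact_mv j k w hjk N hcov) G (zero j k w hjk G)

/-- The image of a complex. -/
noncomputable abbrev TC {U X : Scheme.{u}} (j : U ⟶ X) (K : CochainComplex (EtCoh.Ab X) ℕ) :
    CochainComplex (EtCoh.Ab X) ℕ :=
  ((EtCoh.push j).mapHomologicalComplex (.up ℕ)).obj (((EtCoh.pull j).mapHomologicalComplex (.up ℕ)).obj K)

variable (K : CochainComplex (EtCoh.Ab X) ℕ)

/-- `eta` for complexes -/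
noncomputable def etaC {U X : Scheme.{u}} (j : U ⟶ X) (K : CochainComplex (EtCoh.Ab X) ℕ) : K ⟶ TC j K where
  f n := eta j (K.X n)
  comm' _ _ _ := eta_nat j _

/-- `rho` for complexes -/
noncomputable def rhoC : TC j K ⟶ TC w K where
  f n := (rho j w hjw).app (K.X n)
  comm' _ _ _ := ((rho j w hjw).naturality _).symm

theorem zeroC : biprod.lift (etaC j K) (etaC k K) ≫
    biprod.desc (rhoC j w (hj_of j k w hjk) K) (-(rhoC k w (hk_of j k w hjk) K)) = 0 := by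
  rw [biprod.lift_desc, Preadditive.comp_neg, ← sub_eq_add_neg, sub_eq_zero]
  ext n : 1
  exact (eta_rho j w _ (K.X n)).trans (eta_rho k w _ (K.X n)).symm

include hcov in
theorem shortExactC (hK : ∀ n, Injective (K.X n)) :
    (ShortComplex.mk _ _ (zeroC j k w hjk K)).ShortExact :=
  shortExact_cx _ _ _ _ (zeroC j k w hjk K) (fun n => zero j k w hjk (K.X n)) fun n =>
    have := hK n
    shortExact j k w hjk hcov (K.X n)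

end Seq

section Main

variable {X X' Y Y' : Scheme.{u}} {π : Y ⟶ X} {g : X' ⟶ X} {π' : Y' ⟶ X'} {g' : Y' ⟶ Y}
  (w : g' ≫ π = π' ≫ g)
  {U U' : Scheme.{u}} (j : U ⟶ Y) [IsOpenImmersion j] (j' : U' ⟶ Y') [IsOpenImmersion j'] (h : U' ⟶ U)
  (wj : h ≫ j = j' ≫ g')

/-- The chain map over the open subscheme. -/
noncomputable abbrev tauO {K : CochainComplex (EtCoh.Ab Y) ℕ} {M : CochainComplex (EtCoh.Ab Y') ℕ}
    (x : K ⟶ ((EtCoh.push g').mapHomologicalComplex (.up ℕ)).obj M) :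
    TC j K ⟶ ((EtCoh.push g').mapHomologicalComplex (.up ℕ)).obj (TC j' M) :=
  tauCx (EtCoh.pullPushAdj j) (EtCoh.pullPushAdj j') (BCCalc.sq wj) x

theorem etaC_tauO {K : CochainComplex (EtCoh.Ab Y) ℕ} {M : CochainComplex (EtCoh.Ab Y') ℕ}
    (x : K ⟶ ((EtCoh.push g').mapHomologicalComplex (.up ℕ)).obj M) :
    x ≫ ((EtCoh.push g').mapHomologicalComplex (.up ℕ)).map (etaC j' M) = etaC j K ≫ tauO j j' h wj x := by
  ext n : 1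
  exact (unit_tau (EtCoh.pullPushAdj j) (EtCoh.pullPushAdj j') (BCCalc.sq wj) (x.f n)).symm

variable {V V' : Scheme.{u}} (v : V ⟶ Y) [IsOpenImmersion v] (v' : V' ⟶ Y') [IsOpenImmersion v'] (hv : V' ⟶ V)
  (wv : hv ≫ v = v' ≫ g') (hjv : Set.range v ⊆ Set.range j) (hjv' : Set.range v' ⊆ Set.range j')

theorem rhoC_tauO {K : CochainComplex (EtCoh.Ab Y) ℕ} {M : CochainComplex (EtCoh.Ab Y') ℕ}
    (x : K ⟶ ((EtCoh.push g').mapHomologicalComplex (.up ℕ)).obj M) :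
    tauO j j' h wj x ≫ ((EtCoh.push g').mapHomologicalComplex (.up ℕ)).map (rhoC j' v' hjv' M) =
      rhoC j v hjv K ≫ tauO v v' hv wv x := by
  ext n : 1
  change tau (EtCoh.pullPushAdj j) (EtCoh.pullPushAdj j') (BCCalc.sq wj) (x.f n) ≫
      (EtCoh.push g').map ((rho j' v' hjv').app (M.X n)) =
    (rho j v hjv).app (K.X n) ≫ tau (EtCoh.pullPushAdj v) (EtCoh.pullPushAdj v') (BCCalc.sq wv) (x.f n)
  rw [← cancel_mono ((BCCalc.sq wv).inv.app ((EtCoh.pull v').obj (M.X n)))]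
  apply hom_ext_eta j v hjv
  have e1 := unit_tau (EtCoh.pullPushAdj j) (EtCoh.pullPushAdj j') (BCCalc.sq wj) (x.f n)
  have e2 := unit_tau (EtCoh.pullPushAdj v) (EtCoh.pullPushAdj v') (BCCalc.sq wv) (x.f n)
  have e3 := eta_rho j' v' hjv' (M.X n)
  have e4 := eta_rho j v hjv (K.X n)
  have h1 : eta j (K.X n) ≫ tau (EtCoh.pullPushAdj j) (EtCoh.pullPushAdj j') (BCCalc.sq wj) (x.f n) ≫
      (EtCoh.push g').map ((rho j' v' hjv').app (M.X n)) =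
      x.f n ≫ (EtCoh.push g').map (eta v' (M.X n)) := by
    rw [← e3, Functor.map_comp, ← Category.assoc, ← Category.assoc]
    exact congrArg (fun z => z ≫ (EtCoh.push g').map ((rho j' v' hjv').app (M.X n))) e1
  have h2 : eta j (K.X n) ≫ (rho j v hjv).app (K.X n) ≫
      tau (EtCoh.pullPushAdj v) (EtCoh.pullPushAdj v') (BCCalc.sq wv) (x.f n) =
      x.f n ≫ (EtCoh.push g').map (eta v' (M.X n)) := by
    rw [← Category.assoc, e4]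
    exact e2
  rw [← Category.assoc, ← Category.assoc]
  exact congrArg (fun z => z ≫ (BCCalc.sq wv).inv.app ((EtCoh.pull v').obj (M.X n))) (h1.trans h2.symm)

theorem isIso_bcQ_iff_open (wU : h ≫ j ≫ π = (j' ≫ π') ≫ g) [PreservesFiniteLimits (EtCoh.pull h)]
    (q : ℕ) (F : EtCoh.Ab Y) (I : InjectiveResolution F) (J : InjectiveResolution ((EtCoh.pull g').obj F))
    (x : I.cocomplex ⟶ ((EtCoh.push g').mapHomologicalComplex (.up ℕ)).obj J.cocomplex)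
    (hx : I.ι.f 0 ≫ x.f 0 = (EtCoh.pullPushAdj g').unit.app F ≫ (EtCoh.push g').map (J.ι.f 0)) :
    IsIso (EtBC.bcQ (j ≫ π) g (j' ≫ π') h wU q ((EtCoh.pull j).obj F)) ↔
      IsIso (homologyMap (Th (BCCalc.sq w) (EtCoh.pullPushAdj g) (tauO j j' h wj x)) q) := by
  rw [K557.BcQ.bcQ_eq]
  exact isIso_bc_iff_open (EtCoh.pullPushAdj j) (EtCoh.pullPushAdj j') (BCCalc.sq wj)
    (EtCoh.pullPushAdj g') (EtCoh.pullPushAdj h) (BCCalc.sq w) (EtCoh.pullPushAdj g)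
    (EtCoh.pushComp π j) (EtCoh.pushComp π' j') (BCCalc.sq wU) (BCCalc.sq_vcoh w wj wU)
    (fun I _ => Groth.Agent.Sga4h.PullInj.injective_pull j I)
    (fun I _ => Groth.Agent.Sga4h.PullInj.injective_pull j' I) q F I J x hx

end Main

theorem opens_cov {Y : Scheme.{u}} {Y₁ Y₂ : Y.Opens} (hcov : Y₁ ⊔ Y₂ = ⊤) :
    Set.range Y₁.ι ∪ Set.range Y₂.ι = Set.univ := by
  rw [Scheme.Opens.range_ι, Scheme.Opens.range_ι, ← TopologicalSpace.Opens.coe_sup, hcov]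
  rfl

theorem opens_inf {Y : Scheme.{u}} (Y₁ Y₂ : Y.Opens) :
    Set.range (Y₁ ⊓ Y₂).ι = Set.range Y₁.ι ∩ Set.range Y₂.ι := by
  rw [Scheme.Opens.range_ι, Scheme.Opens.range_ι, Scheme.Opens.range_ι]
  rfl

theorem opens_cov' {Y Y' : Scheme.{u}} (g' : Y' ⟶ Y) {Y₁ Y₂ : Y.Opens} (hcov : Y₁ ⊔ Y₂ = ⊤) :
    Set.range (g' ⁻¹ᵁ Y₁).ι ∪ Set.range (g' ⁻¹ᵁ Y₂).ι = Set.univ := by
  apply opens_cov
  have h1 := congrArg (fun O => g' ⁻¹ᵁ O) hcov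
  exact h1

theorem opens_inf' {Y Y' : Scheme.{u}} (g' : Y' ⟶ Y) (Y₁ Y₂ : Y.Opens) :
    Set.range (g' ⁻¹ᵁ (Y₁ ⊓ Y₂)).ι = Set.range (g' ⁻¹ᵁ Y₁).ι ∩ Set.range (g' ⁻¹ᵁ Y₂).ι :=
  opens_inf (g' ⁻¹ᵁ Y₁) (g' ⁻¹ᵁ Y₂)

theorem isIso_bcQ_of_cover {X X' Y Y' : Scheme.{u}}
    (π : Y ⟶ X) (g : X' ⟶ X) (π' : Y' ⟶ X') (g' : Y' ⟶ Y) (h : IsPullback g' π' π g)
    [PreservesFiniteLimits (EtCoh.pull g')] (F : EtCoh.Ab Y)
    (Y₁ Y₂ : Y.Opens) (hcov : Y₁ ⊔ Y₂ = ⊤)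
    [PreservesFiniteLimits (EtCoh.pull (g' ∣_ (Y₁)))] [PreservesFiniteLimits (EtCoh.pull (g' ∣_ (Y₂)))]
    [PreservesFiniteLimits (EtCoh.pull (g' ∣_ (Y₁ ⊓ Y₂)))]
    (h₁ : ∀ (w : (g' ∣_ (Y₁)) ≫ (Y₁).ι ≫ π = (((g' ⁻¹ᵁ (Y₁)).ι ≫ π') ≫ g)) (q : ℕ),
      IsIso (EtBC.bcQ ((Y₁).ι ≫ π) g ((g' ⁻¹ᵁ (Y₁)).ι ≫ π') (g' ∣_ (Y₁)) w q
        ((EtCoh.pull (Y₁).ι).obj F)))
    (h₂ : ∀ (w : (g' ∣_ (Y₂)) ≫ (Y₂).ι ≫ π = (((g' ⁻¹ᵁ (Y₂)).ι ≫ π') ≫ g)) (q : ℕ),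
      IsIso (EtBC.bcQ ((Y₂).ι ≫ π) g ((g' ⁻¹ᵁ (Y₂)).ι ≫ π') (g' ∣_ (Y₂)) w q
        ((EtCoh.pull (Y₂).ι).obj F)))
    (h₁₂ : ∀ (w : (g' ∣_ (Y₁ ⊓ Y₂)) ≫ (Y₁ ⊓ Y₂).ι ≫ π = (((g' ⁻¹ᵁ (Y₁ ⊓ Y₂)).ι ≫ π') ≫ g)) (q : ℕ),
      IsIso (EtBC.bcQ ((Y₁ ⊓ Y₂).ι ≫ π) g ((g' ⁻¹ᵁ (Y₁ ⊓ Y₂)).ι ≫ π') (g' ∣_ (Y₁ ⊓ Y₂)) w q
        ((EtCoh.pull (Y₁ ⊓ Y₂).ι).obj F)))
    (q : ℕ) :
    IsIso (EtBC.bcQ π g π' g' h.w q F) := by
  have d₁ := morphismRestrict_ι g' Y₁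
  have d₂ := morphismRestrict_ι g' Y₂
  have d₁₂ := morphismRestrict_ι g' (Y₁ ⊓ Y₂)
  have w₁ : (g' ∣_ Y₁) ≫ Y₁.ι ≫ π = ((g' ⁻¹ᵁ Y₁).ι ≫ π') ≫ g := by
    rw [reassoc_of% d₁, h.w, Category.assoc]
  have w₂ : (g' ∣_ Y₂) ≫ Y₂.ι ≫ π = ((g' ⁻¹ᵁ Y₂).ι ≫ π') ≫ g := by
    rw [reassoc_of% d₂, h.w, Category.assoc]
  have w₁₂ : (g' ∣_ (Y₁ ⊓ Y₂)) ≫ (Y₁ ⊓ Y₂).ι ≫ π = ((g' ⁻¹ᵁ (Y₁ ⊓ Y₂)).ι ≫ π') ≫ g := by
    rw [reassoc_of% d₁₂, h.w, Category.assoc]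
  let I := injectiveResolution F
  let J := injectiveResolution ((EtCoh.pull g').obj F)
  obtain ⟨x, hx⟩ := K557.BcAbs.exists_u (Φ := EtCoh.push g') ((EtCoh.pullPushAdj g').unit.app F) I J
  have q₁ : QuasiIso (Th (BCCalc.sq h.w) (EtCoh.pullPushAdj g)
      (tauO Y₁.ι (g' ⁻¹ᵁ Y₁).ι (g' ∣_ Y₁) d₁ x)) := by
    rw [quasiIso_iff]
    intro n
    rw [quasiIsoAt_iff_isIso_homologyMap]
    exact (isIso_bcQ_iff_open h.w Y₁.ι (g' ⁻¹ᵁ Y₁).ι (g' ∣_ Y₁) d₁ w₁ n F I J x hx).1 (h₁ w₁ n)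
  have q₂ : QuasiIso (Th (BCCalc.sq h.w) (EtCoh.pullPushAdj g)
      (tauO Y₂.ι (g' ⁻¹ᵁ Y₂).ι (g' ∣_ Y₂) d₂ x)) := by
    rw [quasiIso_iff]
    intro n
    rw [quasiIsoAt_iff_isIso_homologyMap]
    exact (isIso_bcQ_iff_open h.w Y₂.ι (g' ⁻¹ᵁ Y₂).ι (g' ∣_ Y₂) d₂ w₂ n F I J x hx).1 (h₂ w₂ n)
  have q₁₂ : QuasiIso (Th (BCCalc.sq h.w) (EtCoh.pullPushAdj g)
      (tauO (Y₁ ⊓ Y₂).ι (g' ⁻¹ᵁ (Y₁ ⊓ Y₂)).ι (g' ∣_ (Y₁ ⊓ Y₂)) d₁₂ x)) := by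
    rw [quasiIso_iff]
    intro n
    rw [quasiIsoAt_iff_isIso_homologyMap]
    exact (isIso_bcQ_iff_open h.w (Y₁ ⊓ Y₂).ι (g' ⁻¹ᵁ (Y₁ ⊓ Y₂)).ι (g' ∣_ (Y₁ ⊓ Y₂)) d₁₂ w₁₂ n F I J x
      hx).1 (h₁₂ w₁₂ n)
  have s := shortExactC Y₁.ι Y₂.ι (Y₁ ⊓ Y₂).ι (opens_inf Y₁ Y₂) (opens_cov hcov) I.cocomplex I.injective
  have s' := shortExactC (g' ⁻¹ᵁ Y₁).ι (g' ⁻¹ᵁ Y₂).ι (g' ⁻¹ᵁ (Y₁ ⊓ Y₂)).ι (opens_inf' g' Y₁ Y₂)
    (opens_cov' g' hcov) J.cocomplex J.injective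
  have key : QuasiIso (Th (BCCalc.sq h.w) (EtCoh.pullPushAdj g) x) :=
    quasiIso_Th_mv (BCCalc.sq h.w) (EtCoh.pullPushAdj g) _ _ _ _ _ s _ _ _ _ _ s' I.injective J.injective x
      (tauO Y₁.ι (g' ⁻¹ᵁ Y₁).ι (g' ∣_ Y₁) d₁ x) (tauO Y₂.ι (g' ⁻¹ᵁ Y₂).ι (g' ∣_ Y₂) d₂ x)
      (tauO (Y₁ ⊓ Y₂).ι (g' ⁻¹ᵁ (Y₁ ⊓ Y₂)).ι (g' ∣_ (Y₁ ⊓ Y₂)) d₁₂ x)
      (etaC_tauO _ _ _ d₁ x) (etaC_tauO _ _ _ d₂ x)
      (rhoC_tauO _ _ _ d₁ _ _ _ d₁₂ _ _ x) (rhoC_tauO _ _ _ d₂ _ _ _ d₁₂ _ _ x) q₁ q₂ q₁₂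
  rw [K557.BcQ.bcQ_eq]
  refine (isIso_bc_iff_Th (BCCalc.sq h.w) (EtCoh.pullPushAdj g') (EtCoh.pullPushAdj g) q F I J x hx).2 ?_
  infer_instance

end K69.MVEt
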