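import Groth.Agent.ECM.K69.MVAbs

/-!
# Restriction of the chain level base change map to an open subscheme, abstract form

`jl ⊣ jr` (`j^* ⊣ j_*`), `jl' ⊣ jr'`, `H ⊣ Hr`, `L ⊣ Φ`, `s : Hr ⋙ jr ≅ jr' ⋙ Φ`.

* `res x : jl K ⟶ Hr (jl' M)` for `x : K ⟶ Φ M`; `tau x : jr (jl K) ⟶ Φ (jr' (jl' M))`; `unit_tau`;
* `isIso_bc_iff_open`: the base change map for the open subscheme is an isomorphism in degree `q` iff
  `H^q (Th (tau x))` is.
-/

set_option autoImplicit false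
set_option backward.isDefEq.respectTransparency false
universe v₁ v₂ v₃ v₄ v₅ v₆ u₁ u₂ u₃ u₄ u₅ u₆

open CategoryTheory CategoryTheory.Limits HomologicalComplex

noncomputable section

namespace K69.MVOpen

open K69.MVAbs Groth.Agent.EtpbcB

section

variable {A : Type u₁} [Category.{v₁} A] {A' : Type u₂} [Category.{v₂} A']
  {C : Type u₅} [Category.{v₅} C] {C' : Type u₆} [Category.{v₆} C']
  {jl : A ⥤ C} {jr : C ⥤ A} (aj : jl ⊣ jr) {jl' : A' ⥤ C'} {jr' : C' ⥤ A'} (aj' : jl' ⊣ jr')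
  {Hr : C' ⥤ C} {Φ : A' ⥤ A} (s : Hr ⋙ jr ≅ jr' ⋙ Φ)

/-- The restriction of `x`. -/
def res {K : A} {M : A'} (x : K ⟶ Φ.obj M) : jl.obj K ⟶ Hr.obj (jl'.obj M) :=
  (aj.homEquiv _ _).symm (x ≫ Φ.map (aj'.unit.app M) ≫ s.inv.app (jl'.obj M))

/-- `j_*` of the restriction of `x`. -/
def tau {K : A} {M : A'} (x : K ⟶ Φ.obj M) : jr.obj (jl.obj K) ⟶ Φ.obj (jr'.obj (jl'.obj M)) :=
  jr.map (res aj aj' s x) ≫ s.hom.app (jl'.obj M)

theorem unit_map_res {K : A} {M : A'} (x : K ⟶ Φ.obj M) :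
    aj.unit.app K ≫ jr.map (res aj aj' s x) = x ≫ Φ.map (aj'.unit.app M) ≫ s.inv.app (jl'.obj M) := by
  have h := aj.homEquiv_unit (f := res aj aj' s x)
  rw [← h, res, Equiv.apply_symm_apply]

theorem unit_tau {K : A} {M : A'} (x : K ⟶ Φ.obj M) :
    aj.unit.app K ≫ tau aj aj' s x = x ≫ Φ.map (aj'.unit.app M) := by
  rw [tau, ← Category.assoc, unit_map_res, Category.assoc, Category.assoc]
  congr 1
  refine (congrArg (fun z => Φ.map (aj'.unit.app M) ≫ z) (s.inv_hom_id_app (jl'.obj M))).trans ?_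
  exact Category.comp_id _

theorem res_comm {K₀ K₁ : A} {M₀ M₁ : A'} (a : K₀ ⟶ K₁) (b : M₀ ⟶ M₁) (x₀ : K₀ ⟶ Φ.obj M₀)
    (x₁ : K₁ ⟶ Φ.obj M₁) (h : x₀ ≫ Φ.map b = a ≫ x₁) :
    res aj aj' s x₀ ≫ Hr.map (jl'.map b) = jl.map a ≫ res aj aj' s x₁ := by
  have h1 : aj'.unit.app M₀ ≫ jr'.map (jl'.map b) = b ≫ aj'.unit.app M₁ :=
    (aj'.unit.naturality b).symm
  have h2 : s.inv.app (jl'.obj M₀) ≫ jr.map (Hr.map (jl'.map b)) =
      Φ.map (jr'.map (jl'.map b)) ≫ s.inv.app (jl'.obj M₁) := (s.inv.naturality (jl'.map b)).symm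
  rw [res, res, ← Adjunction.homEquiv_naturality_right_symm, ← Adjunction.homEquiv_naturality_left_symm]
  congr 1
  rw [Category.assoc, Category.assoc, h2, ← Φ.map_comp_assoc, h1, Φ.map_comp, Category.assoc,
    reassoc_of% h]

theorem tau_comm {K₀ K₁ : A} {M₀ M₁ : A'} (a : K₀ ⟶ K₁) (b : M₀ ⟶ M₁) (x₀ : K₀ ⟶ Φ.obj M₀)
    (x₁ : K₁ ⟶ Φ.obj M₁) (h : x₀ ≫ Φ.map b = a ≫ x₁) :
    tau aj aj' s x₀ ≫ Φ.map (jr'.map (jl'.map b)) = jr.map (jl.map a) ≫ tau aj aj' s x₁ := by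
  have h2 : jr.map (Hr.map (jl'.map b)) ≫ s.hom.app (jl'.obj M₁) =
      s.hom.app (jl'.obj M₀) ≫ Φ.map (jr'.map (jl'.map b)) := s.hom.naturality (jl'.map b)
  rw [tau, tau, Category.assoc, ← h2, ← Category.assoc, ← jr.map_comp, res_comm aj aj' s a b x₀ x₁ h,
    jr.map_comp, Category.assoc]

variable {L : A ⥤ A'} (adj : L ⊣ Φ) {H : C ⥤ C'} (aH : H ⊣ Hr)

/-- `h^* j^* ≅ j'^* g'^*` -/
abbrev lft : jl ⋙ H ≅ L ⋙ jl' := MateCalc.leftIso (aj.comp aH) (adj.comp aj') s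

theorem map_res {F : A} {K₀ : A} {M₀ : A'} (i : F ⟶ K₀) (j : L.obj F ⟶ M₀) (x₀ : K₀ ⟶ Φ.obj M₀)
    (h : i ≫ x₀ = adj.unit.app F ≫ Φ.map j) :
    jl.map i ≫ res aj aj' s x₀ = aH.unit.app (jl.obj F) ≫
      Hr.map ((lft aj aj' s adj aH).hom.app F ≫ jl'.map j) := by
  apply (aj.homEquiv _ _).injective
  have h1 := MateCalc.unit_leftIso (aj.comp aH) (adj.comp aj') s F
  rw [Adjunction.comp_unit_app, Adjunction.comp_unit_app] at h1
  have h2 : s.inv.app (jl'.obj (L.obj F)) ≫ jr.map (Hr.map (jl'.map j)) =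
      Φ.map (jr'.map (jl'.map j)) ≫ s.inv.app (jl'.obj M₀) := (s.inv.naturality (jl'.map j)).symm
  have h3 : aj'.unit.app (L.obj F) ≫ jr'.map (jl'.map j) = j ≫ aj'.unit.app M₀ :=
    (aj'.unit.naturality j).symm
  have h4 : (adj.unit.app F ≫ Φ.map (aj'.unit.app (L.obj F))) ≫ s.inv.app (jl'.obj (L.obj F)) =
      aj.unit.app F ≫ jr.map (aH.unit.app (jl.obj F)) ≫
        jr.map (Hr.map ((lft aj aj' s adj aH).hom.app F)) := by
    have h5 := congrArg (fun z => z ≫ s.inv.app (jl'.obj (L.obj F))) h1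
    refine h5.trans ?_
    have h6 : s.hom.app (jl'.obj (L.obj F)) ≫ s.inv.app (jl'.obj (L.obj F)) = 𝟙 _ :=
      s.hom_inv_id_app _
    simp only [Category.assoc]
    refine congrArg (fun z => aj.unit.app F ≫ jr.map (aH.unit.app (jl.obj F)) ≫ z) ?_
    refine (congrArg (fun z => jr.map (Hr.map ((lft aj aj' s adj aH).hom.app F)) ≫ z) h6).trans ?_
    exact Category.comp_id _
  rw [Adjunction.homEquiv_naturality_left, res, Equiv.apply_symm_apply, Adjunction.homEquiv_unit,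
    reassoc_of% h, ← Φ.map_comp_assoc, ← h3, Φ.map_comp, Category.assoc, ← h2]
  simp only [Functor.map_comp]
  have h7 := congrArg (fun z => z ≫ jr.map (Hr.map (jl'.map j))) h4
  simp only [Category.assoc] at h7 ⊢
  exact h7

variable {B : Type u₃} [Category.{v₃} B] {B' : Type u₄} [Category.{v₄} B']
  {Ψ : A ⥤ B} {Φ₂ : A' ⥤ B'} {Ψ₂ : B' ⥤ B} (e : Φ ⋙ Ψ ≅ Φ₂ ⋙ Ψ₂)
  {L₂ : B ⥤ B'} (adj₂ : L₂ ⊣ Ψ₂) {ΨU : C ⥤ B} {Φ₂U : C' ⥤ B'} (pc : jr ⋙ Ψ ≅ ΨU) (pc' : jr' ⋙ Φ₂ ≅ Φ₂U)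
  (eU : Hr ⋙ ΨU ≅ Φ₂U ⋙ Ψ₂)
  (paste : ∀ M : C', pc.hom.app (Hr.obj M) ≫ eU.hom.app M =
    Ψ.map (s.hom.app M) ≫ e.hom.app (jr'.obj M) ≫ Ψ₂.map (pc'.hom.app M))

include paste in
theorem tr_tau {K : A} {M : A'} (x : K ⟶ Φ.obj M) :
    tr e adj₂ (tau aj aj' s x) ≫ pc'.hom.app (jl'.obj M) =
      L₂.map (pc.hom.app (jl.obj K)) ≫ tr eU adj₂ (res aj aj' s x) := by
  have h1 : Ψ.map (jr.map (res aj aj' s x)) ≫ pc.hom.app (Hr.obj (jl'.obj M)) =
      pc.hom.app (jl.obj K) ≫ ΨU.map (res aj aj' s x) := pc.hom.naturality (res aj aj' s x)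
  unfold tr
  rw [← Adjunction.homEquiv_naturality_right_symm, ← Adjunction.homEquiv_naturality_left_symm]
  congr 1
  rw [tau, Ψ.map_comp]
  simp only [Category.assoc]
  rw [← reassoc_of% h1, paste]

end

section Ab

variable {A : Type u₁} [Category.{v₁} A] [Abelian A] [HasInjectiveResolutions A]
  {A' : Type u₂} [Category.{v₂} A'] [Abelian A'] [HasInjectiveResolutions A']
  {B : Type u₃} [Category.{v₃} B] [Abelian B]
  {B' : Type u₄} [Category.{v₄} B'] [Abelian B']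
  {C : Type u₅} [Category.{v₅} C] [Abelian C] [HasInjectiveResolutions C]
  {C' : Type u₆} [Category.{v₆} C'] [Abelian C'] [HasInjectiveResolutions C']
  {jl : A ⥤ C} {jr : C ⥤ A} (aj : jl ⊣ jr) {jl' : A' ⥤ C'} {jr' : C' ⥤ A'} (aj' : jl' ⊣ jr')
  {H : C ⥤ C'} {Hr : C' ⥤ C} {L : A ⥤ A'} {Φ : A' ⥤ A} (s : Hr ⋙ jr ≅ jr' ⋙ Φ)
  (adj : L ⊣ Φ) (aH : H ⊣ Hr)
  {Ψ : A ⥤ B} {Φ₂ : A' ⥤ B'} {Ψ₂ : B' ⥤ B} (e : Φ ⋙ Ψ ≅ Φ₂ ⋙ Ψ₂)
  {L₂ : B ⥤ B'} (adj₂ : L₂ ⊣ Ψ₂) {ΨU : C ⥤ B} {Φ₂U : C' ⥤ B'} (pc : jr ⋙ Ψ ≅ ΨU) (pc' : jr' ⋙ Φ₂ ≅ Φ₂U)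
  (eU : Hr ⋙ ΨU ≅ Φ₂U ⋙ Ψ₂)
  (paste : ∀ M : C', pc.hom.app (Hr.obj M) ≫ eU.hom.app M =
    Ψ.map (s.hom.app M) ≫ e.hom.app (jr'.obj M) ≫ Ψ₂.map (pc'.hom.app M))
  [jl.Additive] [jl.PreservesHomology] [jr.Additive] [jl'.Additive] [jl'.PreservesHomology] [jr'.Additive]
  [Hr.Additive] [Hr.PreservesInjectiveObjects] [Φ.Additive] [Ψ.Additive] [Φ₂.Additive] [ΨU.Additive]
  [Φ₂U.Additive] [Ψ₂.Additive] [PreservesFiniteLimits Ψ₂] [L₂.Additive] [PreservesFiniteLimits L₂]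
  [PreservesFiniteColimits L₂]

/-- `res` for complexes. -/
def resCx {K : CochainComplex A ℕ} {M : CochainComplex A' ℕ}
    (x : K ⟶ (Φ.mapHomologicalComplex (.up ℕ)).obj M) :
    (jl.mapHomologicalComplex (.up ℕ)).obj K ⟶
      (Hr.mapHomologicalComplex (.up ℕ)).obj ((jl'.mapHomologicalComplex (.up ℕ)).obj M) where
  f n := res aj aj' s (x.f n)
  comm' i j _ := res_comm aj aj' s (K.d i j) (M.d i j) (x.f i) (x.f j) (x.comm i j)

/-- `tau` for complexes. -/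
def tauCx {K : CochainComplex A ℕ} {M : CochainComplex A' ℕ}
    (x : K ⟶ (Φ.mapHomologicalComplex (.up ℕ)).obj M) :
    (jr.mapHomologicalComplex (.up ℕ)).obj ((jl.mapHomologicalComplex (.up ℕ)).obj K) ⟶
      (Φ.mapHomologicalComplex (.up ℕ)).obj
        ((jr'.mapHomologicalComplex (.up ℕ)).obj ((jl'.mapHomologicalComplex (.up ℕ)).obj M)) where
  f n := tau aj aj' s (x.f n)
  comm' i j _ := tau_comm aj aj' s (K.d i j) (M.d i j) (x.f i) (x.f j) (x.comm i j)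

include paste in
theorem Th_tauCx {K : CochainComplex A ℕ} {M : CochainComplex A' ℕ}
    (x : K ⟶ (Φ.mapHomologicalComplex (.up ℕ)).obj M) :
    Th e adj₂ (tauCx aj aj' s x) ≫ (NatTrans.mapHomologicalComplex pc'.hom (.up ℕ)).app
        ((jl'.mapHomologicalComplex (.up ℕ)).obj M) =
      (L₂.mapHomologicalComplex (.up ℕ)).map ((NatTrans.mapHomologicalComplex pc.hom (.up ℕ)).app
        ((jl.mapHomologicalComplex (.up ℕ)).obj K)) ≫ Th eU adj₂ (resCx aj aj' s x) := by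
  ext n
  exact tr_tau aj aj' s e adj₂ pc pc' eU paste (x.f n)

include paste in
theorem quasiIso_tauCx_iff {K : CochainComplex A ℕ} {M : CochainComplex A' ℕ}
    (x : K ⟶ (Φ.mapHomologicalComplex (.up ℕ)).obj M) (q : ℕ) :
    IsIso (homologyMap (Th e adj₂ (tauCx aj aj' s x)) q) ↔
      IsIso (homologyMap (Th eU adj₂ (resCx aj aj' s x)) q) := by
  have h := Th_tauCx aj aj' s e adj₂ pc pc' eU paste x
  have i1 : IsIso ((NatTrans.mapHomologicalComplex pc'.hom (ComplexShape.up ℕ)).app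
      ((jl'.mapHomologicalComplex (.up ℕ)).obj M)) :=
    inferInstanceAs (IsIso ((NatIso.mapHomologicalComplex pc' (ComplexShape.up ℕ)).hom.app _))
  have i2 : IsIso ((NatTrans.mapHomologicalComplex pc.hom (ComplexShape.up ℕ)).app
      ((jl.mapHomologicalComplex (.up ℕ)).obj K)) :=
    inferInstanceAs (IsIso ((NatIso.mapHomologicalComplex pc (ComplexShape.up ℕ)).hom.app _))
  have h' := congrArg (fun z => homologyMap z q) h
  simp only [homologyMap_comp] at h'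
  constructor
  · intro h1
    have h2 : IsIso (homologyMap ((L₂.mapHomologicalComplex (.up ℕ)).map
      ((NatTrans.mapHomologicalComplex pc.hom (.up ℕ)).app
        ((jl.mapHomologicalComplex (.up ℕ)).obj K))) q ≫ homologyMap (Th eU adj₂ (resCx aj aj' s x)) q) := by
      rw [← h']
      infer_instance
    exact (isIso_comp_left_iff _ _).1 h2
  · intro h1
    have h2 : IsIso (homologyMap (Th e adj₂ (tauCx aj aj' s x)) q ≫
      homologyMap ((NatTrans.mapHomologicalComplex pc'.hom (.up ℕ)).app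
        ((jl'.mapHomologicalComplex (.up ℕ)).obj M)) q) := by
      rw [h']
      infer_instance
    exact (isIso_comp_right_iff _ _).1 h2

variable (hjl : ∀ I : A, Injective I → Injective (jl.obj I))
  (hjl' : ∀ I : A', Injective I → Injective (jl'.obj I))

/-- The resolution of `h^* j^* F` obtained from a resolution of `g'^* F`. -/
def resJ {F : A} (J : InjectiveResolution (L.obj F)) : InjectiveResolution (H.obj (jl.obj F)) where
  cocomplex := (Groth.Agent.Sga4h.RDExact.mapInjRes jl' hjl' J).cocomplex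
  injective := (Groth.Agent.Sga4h.RDExact.mapInjRes jl' hjl' J).injective
  ι := (CochainComplex.single₀ C').map ((lft aj aj' s adj aH).hom.app F) ≫
    (Groth.Agent.Sga4h.RDExact.mapInjRes jl' hjl' J).ι
  quasiIso := by
    have h1 : IsIso ((CochainComplex.single₀ C').map ((lft aj aj' s adj aH).hom.app F)) := inferInstance
    have h2 := (Groth.Agent.Sga4h.RDExact.mapInjRes jl' hjl' J).quasiIso
    infer_instance

open K557.BcAbs in
include paste hjl hjl' in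
/-- The base change map over the open subscheme at chain level. -/
theorem isIso_bc_iff_open (q : ℕ) (F : A) (I : InjectiveResolution F) (J : InjectiveResolution (L.obj F))
    (x : I.cocomplex ⟶ (Φ.mapHomologicalComplex (.up ℕ)).obj J.cocomplex)
    (hx : I.ι.f 0 ≫ x.f 0 = adj.unit.app F ≫ Φ.map (J.ι.f 0)) :
    IsIso (bc eU aH adj₂ q (jl.obj F)) ↔ IsIso (homologyMap (Th e adj₂ (tauCx aj aj' s x)) q) := by
  rw [quasiIso_tauCx_iff aj aj' s e adj₂ pc pc' eU paste x q]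
  refine isIso_bc_iff_Th eU aH adj₂ q (jl.obj F) (Groth.Agent.Sga4h.RDExact.mapInjRes jl hjl I)
    (resJ aj aj' s adj aH hjl' J) (resCx aj aj' s x) ?_
  have h1 := map_res aj aj' s adj aH (I.ι.f 0) (J.ι.f 0) (x.f 0) hx
  have h2 : (resJ aj aj' s adj aH hjl' J).ι.f 0 =
      (lft aj aj' s adj aH).hom.app F ≫ jl'.map (J.ι.f 0) := by
    have h3 : (resJ aj aj' s adj aH hjl' J).ι.f 0 =
      ((CochainComplex.single₀ C').map ((lft aj aj' s adj aH).hom.app F)).f 0 ≫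
        (Groth.Agent.Sga4h.RDExact.mapInjRes jl' hjl' J).ι.f 0 := rfl
    rw [h3, CochainComplex.single₀_map_f_zero, Groth.Agent.Sga4h.RDExact.mapInjRes_ι_f_zero]
  rw [h2]
  refine Eq.trans ?_ h1
  exact congrArg (fun z => z ≫ res aj aj' s (x.f 0))
    (Groth.Agent.Sga4h.RDExact.mapInjRes_ι_f_zero jl hjl I)

end Ab

end K69.MVOpen
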